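import Cfsg.Agent.Lib.Spor.TranCent.Cert.BadCubeAData

/-!
Coset certificate `BadCubeA` checks.
-/

set_option autoImplicit false
set_option maxRecDepth 100000

namespace Cfsg.Agent.Spor.TranCent.BadCubeA

open Cfsg.Agent.Spor.CC

/-- checked entries -/
def edL0 : List ℕ := [
0x5b001,
0x5b801,
0x5c001,
0x5c801,
0x5d001,
0x7d4003e8001f2800f80007ae003da001f380000008]

theorem edOK0 : edgesOK dat 502 edL0 0 = true := by decide +kernel

end Cfsg.Agent.Spor.TranCent.BadCubeA
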