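import Cfsg.Agent.Lib.Spor.TranCent.Cert.BadCubeCData

/-!
Coset certificate `BadCubeC` checks.
-/

set_option autoImplicit false
set_option maxRecDepth 100000

namespace Cfsg.Agent.Spor.TranCent.BadCubeC

open Cfsg.Agent.Spor.CC

/-- checked entries -/
def edL0 : List ℕ := [
0x5c001,
0x5c801,
0x5d001,
0x5d801,
0x5e001,
0x3a2001d080000003]

theorem edOK0 : edgesOK dat 466 edL0 0 = true := by decide +kernel

end Cfsg.Agent.Spor.TranCent.BadCubeC
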