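import Cfsg.Agent.Lib.Spor.TranCent.Cert.BadFifthAData

/-!
Coset certificate `BadFifthA` checks.
-/

set_option autoImplicit false
set_option maxRecDepth 100000

namespace Cfsg.Agent.Spor.TranCent.BadFifthA

open Cfsg.Agent.Spor.CC

/-- checked entries -/
def edL0 : List ℕ := [
0x1b5001,
0x1b5801,
0x1b6001,
0x1b6801,
0x1b7001,
0x779003b9801dc200ed40076f803b6801de000eeb00776803ba000e1e0070a007778000000e]

theorem edOK0 : edgesOK dat 1914 edL0 0 = true := by decide +kernel

end Cfsg.Agent.Spor.TranCent.BadFifthA
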