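import Cfsg.Agent.Lib.Spor.TranCent.Cert.BadFifthBData

/-!
Coset certificate `BadFifthB` checks.
-/

set_option autoImplicit false
set_option maxRecDepth 100000

namespace Cfsg.Agent.Spor.TranCent.BadFifthB

open Cfsg.Agent.Spor.CC

/-- checked entries -/
def edL0 : List ℕ := [
0x1f2001,
0x1f2801,
0x1f3001,
0x1f3801,
0x1f4001,
0x8820043e0021c0011020087e8043f8021ee010f4008808000000a]

theorem edOK0 : edgesOK dat 2179 edL0 0 = true := by decide +kernel

end Cfsg.Agent.Spor.TranCent.BadFifthB
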