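import Cfsg.Agent.Lib.Spor.TranCent.Cert.BadSixthAData

/-!
Coset certificate `BadSixthA` checks.
-/

set_option autoImplicit false
set_option maxRecDepth 100000

namespace Cfsg.Agent.Spor.TranCent.BadSixthA

open Cfsg.Agent.Spor.CC

/-- checked entries -/
def edL0 : List ℕ := [
0x1ab001,
0x1ab801,
0x1ac001,
0x1ac801,
0x1ad001,
0x38d801c6800e310071980000005]

theorem edOK0 : edgesOK dat 1820 edL0 0 = true := by decide +kernel

end Cfsg.Agent.Spor.TranCent.BadSixthA
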