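import Cfsg.Agent.Lib.Spor.TranCent.Cert.BadSixthBData

/-!
Coset certificate `BadSixthB` checks.
-/

set_option autoImplicit false
set_option maxRecDepth 100000

namespace Cfsg.Agent.Spor.TranCent.BadSixthB

open Cfsg.Agent.Spor.CC

/-- checked entries -/
def edL0 : List ℕ := [
0x195001,
0x195801,
0x196001,
0x196801,
0x197001,
0xd96006ca00364401b0e00d8b006c980000007]

theorem edOK0 : edgesOK dat 1740 edL0 0 = true := by decide +kernel

end Cfsg.Agent.Spor.TranCent.BadSixthB
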