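import Cfsg.Agent.Lib.Spor.TranCent.Cert.ClosedData

/-!
Coset certificate `Closed` checks.
-/

set_option autoImplicit false
set_option maxRecDepth 100000

namespace Cfsg.Agent.Spor.TranCent.Closed

open Cfsg.Agent.Spor.CC

/-- checked entries -/
def edL0 : List ℕ := [
0x3f001,
0x3f801,
0x40001,
0x40801,
0x41001,
0x1,
0x41801,
0x42001,
0x43801,
0x42801,
0x801,
0x401,
0x44001,
0x1001,
0x1801,
0x2001,
0xc01,
0x2dc0016280007003,
0x47001,
0x1401,
0x2801,
0x3001,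
0x43001,
0xb680054e0028a0016480008805,
0x53001,
0x46401,
0x1c01,
0x3801,
0x4b001,
0x5ac002840016680007804,
0x4001,
0x45001,
0x4801,
0x2401,
0x45801,
0x59c002730015b80009004,
0x4d001,
0x46001,
0x2c01,
0x46801,
0x5001,
0x5bc002830016980055004,
0x5801,
0x44801,
0x4e801,
0x3401,
0x48001,
0xb2800552002b8001578000a005,
0x6001,
0x4c001,
0x4ec01,
0x3c01,
0x4f001,
0x58c0027c0015d8000b804,
0x4401,
0x49001,
0x48c01,
0x47801,
0x45c01,
0x5780026d0016180058804,
0x6801,
0x4a801,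
0x4c01,
0x46c01,
0x4c801,
0x16c0005f802,
0x4e001,
0x4b801,
0x50801,
0x4d801,
0x5401,
0x52001,
0x5c01,
0x49401,
0x48801,
0x49801,
0x4a001,
0xaf80050e002b2001560000a805,
0x6401,
0x50001,
0x51401,
0x51801,
0x4f801,
0x1680000b002,
0x6c01,
0x50401,
0x51001,
0x52801,
0x4cc01,
0x16a0000c802]

theorem edOK0 : edgesOK dat 368 edL0 0 = true := by decide +kernel

end Cfsg.Agent.Spor.TranCent.Closed
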