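import Cfsg.Agent.Lib.Spor.TranCent.Cert.DoubleBData

/-!
Coset certificate `DoubleB` checks.
-/

set_option autoImplicit false
set_option maxRecDepth 100000

namespace Cfsg.Agent.Spor.TranCent.DoubleB

open Cfsg.Agent.Spor.CC

/-- checked entries -/
def edL0 : List ℕ := [
0x10e801,
0x10f001,
0x10f801,
0x110001,
0x110801,
0x111001,
0x43f0015d800a320087d0043d0021b800cee00877002d38014fc010e80068300438801164010d0006650043980000012]

theorem edOK0 : edgesOK dat 1088 edL0 0 = true := by decide +kernel

end Cfsg.Agent.Spor.TranCent.DoubleB
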