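import Cfsg.Agent.Lib.Spor.TranCent.Cert.DoubleCData

/-!
Coset certificate `DoubleC` checks.
-/

set_option autoImplicit false
set_option maxRecDepth 100000

namespace Cfsg.Agent.Spor.TranCent.DoubleC

open Cfsg.Agent.Spor.CC

/-- checked entries -/
def edL0 : List ℕ := [
0x6e001,
0x6e801,
0x6f001,
0x6f801,
0x70001,
0x70801,
0x3c2001e0000d78004f400268001228008e00055200258001a9000a3c007780032d001a7000c680076400396001d1800ec40062e002ac001d7000e7c0074a003bb001df8000001b]

theorem edOK0 : edgesOK dat 482 edL0 0 = true := by decide +kernel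

end Cfsg.Agent.Spor.TranCent.DoubleC
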