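import Cfsg.Agent.Lib.Spor.TranCent.Cert.DoubleDData

/-!
Coset certificate `DoubleD` checks.
-/

set_option autoImplicit false
set_option maxRecDepth 100000

namespace Cfsg.Agent.Spor.TranCent.DoubleD

open Cfsg.Agent.Spor.CC

/-- checked entries -/
def edL0 : List ℕ := [
0x6a001,
0x6a801,
0x6b001,
0x6b801,
0x6c001,
0x6c801,
0x3b2001d8000c5c005aa003ac00111800994005d400275001d78000000b]

theorem edOK0 : edgesOK dat 474 edL0 0 = true := by decide +kernel

end Cfsg.Agent.Spor.TranCent.DoubleD
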