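import Cfsg.Agent.Lib.Spor.TranCent.Cert.DoubleEData

/-!
Coset certificate `DoubleE` checks.
-/

set_option autoImplicit false
set_option maxRecDepth 100000

namespace Cfsg.Agent.Spor.TranCent.DoubleE

open Cfsg.Agent.Spor.CC

/-- checked entries -/
def edL0 : List ℕ := [
0x12d801,
0x12e001,
0x12e801,
0x12f001,
0x12f801,
0x130001,
0x12d000966004b200181000ae400563004ae00258400b38005c100301001750012bc0060e004b180000010]

theorem edOK0 : edgesOK dat 1205 edL0 0 = true := by decide +kernel

end Cfsg.Agent.Spor.TranCent.DoubleE
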