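import Cfsg.Agent.Lib.Spor.TranCent.Cert.DoubleGData

/-!
Coset certificate `DoubleG` checks.
-/

set_option autoImplicit false
set_option maxRecDepth 100000

namespace Cfsg.Agent.Spor.TranCent.DoubleG

open Cfsg.Agent.Spor.CC

/-- checked entries -/
def edL0 : List ℕ := [
0x60801,
0x61001,
0x61801,
0x62001,
0x62801,
0x63001,
0x6700029f001198009dc0066c0033200153800a28004b6002850019a8000000c]

theorem edOK0 : edgesOK dat 413 edL0 0 = true := by decide +kernel

end Cfsg.Agent.Spor.TranCent.DoubleG
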