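import Cfsg.Agent.Lib.Spor.TranCent.Cert.DoubleHData

/-!
Coset certificate `DoubleH` checks.
-/

set_option autoImplicit false
set_option maxRecDepth 100000

namespace Cfsg.Agent.Spor.TranCent.DoubleH

open Cfsg.Agent.Spor.CC

/-- checked entries -/
def edL0 : List ℕ := [
0x5f801,
0x60001,
0x60801,
0x61001,
0x61801,
0x62001,
0x3600016b8008d800460001fb0014c000d78006b4002bd00133000aa0004ea002a3001ae8000000f]

theorem edOK0 : edgesOK dat 433 edL0 0 = true := by decide +kernel

end Cfsg.Agent.Spor.TranCent.DoubleH
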