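import Cfsg.Agent.Lib.Spor.TranCent.Cert.HeSteps0
import Cfsg.Agent.Lib.Spor.TranCent.Cert.HeSteps1
import Cfsg.Agent.Lib.Spor.TranCent.Cert.HeSteps2
import Cfsg.Agent.Lib.Spor.TranCent.Cert.HeSteps3
import Cfsg.Agent.Lib.Spor.TranCent.Cert.HeSteps4
import Cfsg.Agent.Lib.Spor.TranCent.Cert.HeSteps5
import Cfsg.Agent.Lib.Spor.TranCent.Cert.HeEdges0
import Cfsg.Agent.Lib.Spor.TranCent.Cert.HeEdges1
import Cfsg.Agent.Lib.Spor.TranCent.Cert.HeEdges2
import Cfsg.Agent.Lib.Spor.TranCent.Cert.HeEdges3
import Cfsg.Agent.Lib.Spor.TranCent.Cert.HeEdges4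
import Cfsg.Agent.Lib.Spor.TranCent.Cert.HeEdges5
import Cfsg.Agent.Lib.Spor.TranCent.Cert.HeEdges6
import Cfsg.Agent.Lib.Spor.TranCent.Cert.HeEdges7
import Cfsg.Agent.Lib.Spor.TranCent.Cert.HeEdges8
import Cfsg.Agent.Lib.Spor.TranCent.Cert.HeEdges9
import Cfsg.Agent.Lib.Spor.TranCent.Cert.HeEdges10
import Cfsg.Agent.Lib.Spor.TranCent.Cert.HeEdges11
import Cfsg.Agent.Lib.Spor.TranCent.Cert.HeEdges12
import Cfsg.Agent.Lib.Spor.TranCent.Cert.HeEdges13
import Cfsg.Agent.Lib.Spor.TranCent.Cert.HeEdges14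
import Cfsg.Agent.Lib.Spor.TranCent.Cert.HeEdges15
import Cfsg.Agent.Lib.Spor.TranCent.Cert.HeEdges16
import Cfsg.Agent.Lib.Spor.TranCent.Cert.HeEdges17

/-!
Coset certificate `He` assembled.
-/

set_option autoImplicit false
set_option maxRecDepth 100000

namespace Cfsg.Agent.Spor.TranCent.He

open Cfsg.Agent.Spor.CC

theorem steps_all : ∀ k, 29155 ≤ k → k < 87907 → ∃ s, stepOK dat k s = true := by
  intro k hk0 hk
  by_cases h0 : k < 31655
  · exact stepsOK_spec _ _ stOK0 k (by omega) (lt_of_lt_of_eq h0 (by decide +kernel))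
  by_cases h1 : k < 34155
  · exact stepsOK_spec _ _ stOK1 k (by omega) (lt_of_lt_of_eq h1 (by decide +kernel))
  by_cases h2 : k < 36655
  · exact stepsOK_spec _ _ stOK2 k (by omega) (lt_of_lt_of_eq h2 (by decide +kernel))
  by_cases h3 : k < 39155
  · exact stepsOK_spec _ _ stOK3 k (by omega) (lt_of_lt_of_eq h3 (by decide +kernel))
  by_cases h4 : k < 41655
  · exact stepsOK_spec _ _ stOK4 k (by omega) (lt_of_lt_of_eq h4 (by decide +kernel))
  by_cases h5 : k < 44155
  · exact stepsOK_spec _ _ stOK5 k (by omega) (lt_of_lt_of_eq h5 (by decide +kernel))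
  by_cases h6 : k < 46655
  · exact stepsOK_spec _ _ stOK6 k (by omega) (lt_of_lt_of_eq h6 (by decide +kernel))
  by_cases h7 : k < 49155
  · exact stepsOK_spec _ _ stOK7 k (by omega) (lt_of_lt_of_eq h7 (by decide +kernel))
  by_cases h8 : k < 51655
  · exact stepsOK_spec _ _ stOK8 k (by omega) (lt_of_lt_of_eq h8 (by decide +kernel))
  by_cases h9 : k < 54155
  · exact stepsOK_spec _ _ stOK9 k (by omega) (lt_of_lt_of_eq h9 (by decide +kernel))
  by_cases h10 : k < 56655
  · exact stepsOK_spec _ _ stOK10 k (by omega) (lt_of_lt_of_eq h10 (by decide +kernel))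
  by_cases h11 : k < 59155
  · exact stepsOK_spec _ _ stOK11 k (by omega) (lt_of_lt_of_eq h11 (by decide +kernel))
  by_cases h12 : k < 61655
  · exact stepsOK_spec _ _ stOK12 k (by omega) (lt_of_lt_of_eq h12 (by decide +kernel))
  by_cases h13 : k < 64155
  · exact stepsOK_spec _ _ stOK13 k (by omega) (lt_of_lt_of_eq h13 (by decide +kernel))
  by_cases h14 : k < 66655
  · exact stepsOK_spec _ _ stOK14 k (by omega) (lt_of_lt_of_eq h14 (by decide +kernel))
  by_cases h15 : k < 69155
  · exact stepsOK_spec _ _ stOK15 k (by omega) (lt_of_lt_of_eq h15 (by decide +kernel))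
  by_cases h16 : k < 71655
  · exact stepsOK_spec _ _ stOK16 k (by omega) (lt_of_lt_of_eq h16 (by decide +kernel))
  by_cases h17 : k < 74155
  · exact stepsOK_spec _ _ stOK17 k (by omega) (lt_of_lt_of_eq h17 (by decide +kernel))
  by_cases h18 : k < 76655
  · exact stepsOK_spec _ _ stOK18 k (by omega) (lt_of_lt_of_eq h18 (by decide +kernel))
  by_cases h19 : k < 79155
  · exact stepsOK_spec _ _ stOK19 k (by omega) (lt_of_lt_of_eq h19 (by decide +kernel))
  by_cases h20 : k < 81655
  · exact stepsOK_spec _ _ stOK20 k (by omega) (lt_of_lt_of_eq h20 (by decide +kernel))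
  by_cases h21 : k < 84155
  · exact stepsOK_spec _ _ stOK21 k (by omega) (lt_of_lt_of_eq h21 (by decide +kernel))
  by_cases h22 : k < 86655
  · exact stepsOK_spec _ _ stOK22 k (by omega) (lt_of_lt_of_eq h22 (by decide +kernel))
  exact stepsOK_spec _ _ stOK23 k (by omega) (lt_of_lt_of_eq hk (by decide +kernel))

theorem edges_all : ∀ k, k < 174930 → ∃ s, edgeOK dat 87907 k s = true := by
  intro k hk
  by_cases h0 : k < 2500
  · exact edgesOK_spec _ _ edOK0 k (by omega) (lt_of_lt_of_eq h0 (by decide +kernel))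
  by_cases h1 : k < 5000
  · exact edgesOK_spec _ _ edOK1 k (by omega) (lt_of_lt_of_eq h1 (by decide +kernel))
  by_cases h2 : k < 7500
  · exact edgesOK_spec _ _ edOK2 k (by omega) (lt_of_lt_of_eq h2 (by decide +kernel))
  by_cases h3 : k < 10000
  · exact edgesOK_spec _ _ edOK3 k (by omega) (lt_of_lt_of_eq h3 (by decide +kernel))
  by_cases h4 : k < 12500
  · exact edgesOK_spec _ _ edOK4 k (by omega) (lt_of_lt_of_eq h4 (by decide +kernel))
  by_cases h5 : k < 15000
  · exact edgesOK_spec _ _ edOK5 k (by omega) (lt_of_lt_of_eq h5 (by decide +kernel))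
  by_cases h6 : k < 17500
  · exact edgesOK_spec _ _ edOK6 k (by omega) (lt_of_lt_of_eq h6 (by decide +kernel))
  by_cases h7 : k < 20000
  · exact edgesOK_spec _ _ edOK7 k (by omega) (lt_of_lt_of_eq h7 (by decide +kernel))
  by_cases h8 : k < 22500
  · exact edgesOK_spec _ _ edOK8 k (by omega) (lt_of_lt_of_eq h8 (by decide +kernel))
  by_cases h9 : k < 25000
  · exact edgesOK_spec _ _ edOK9 k (by omega) (lt_of_lt_of_eq h9 (by decide +kernel))
  by_cases h10 : k < 27500
  · exact edgesOK_spec _ _ edOK10 k (by omega) (lt_of_lt_of_eq h10 (by decide +kernel))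
  by_cases h11 : k < 30000
  · exact edgesOK_spec _ _ edOK11 k (by omega) (lt_of_lt_of_eq h11 (by decide +kernel))
  by_cases h12 : k < 32500
  · exact edgesOK_spec _ _ edOK12 k (by omega) (lt_of_lt_of_eq h12 (by decide +kernel))
  by_cases h13 : k < 35000
  · exact edgesOK_spec _ _ edOK13 k (by omega) (lt_of_lt_of_eq h13 (by decide +kernel))
  by_cases h14 : k < 37500
  · exact edgesOK_spec _ _ edOK14 k (by omega) (lt_of_lt_of_eq h14 (by decide +kernel))
  by_cases h15 : k < 40000
  · exact edgesOK_spec _ _ edOK15 k (by omega) (lt_of_lt_of_eq h15 (by decide +kernel))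
  by_cases h16 : k < 42500
  · exact edgesOK_spec _ _ edOK16 k (by omega) (lt_of_lt_of_eq h16 (by decide +kernel))
  by_cases h17 : k < 45000
  · exact edgesOK_spec _ _ edOK17 k (by omega) (lt_of_lt_of_eq h17 (by decide +kernel))
  by_cases h18 : k < 47500
  · exact edgesOK_spec _ _ edOK18 k (by omega) (lt_of_lt_of_eq h18 (by decide +kernel))
  by_cases h19 : k < 50000
  · exact edgesOK_spec _ _ edOK19 k (by omega) (lt_of_lt_of_eq h19 (by decide +kernel))
  by_cases h20 : k < 52500
  · exact edgesOK_spec _ _ edOK20 k (by omega) (lt_of_lt_of_eq h20 (by decide +kernel))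
  by_cases h21 : k < 55000
  · exact edgesOK_spec _ _ edOK21 k (by omega) (lt_of_lt_of_eq h21 (by decide +kernel))
  by_cases h22 : k < 57500
  · exact edgesOK_spec _ _ edOK22 k (by omega) (lt_of_lt_of_eq h22 (by decide +kernel))
  by_cases h23 : k < 60000
  · exact edgesOK_spec _ _ edOK23 k (by omega) (lt_of_lt_of_eq h23 (by decide +kernel))
  by_cases h24 : k < 62500
  · exact edgesOK_spec _ _ edOK24 k (by omega) (lt_of_lt_of_eq h24 (by decide +kernel))
  by_cases h25 : k < 65000
  · exact edgesOK_spec _ _ edOK25 k (by omega) (lt_of_lt_of_eq h25 (by decide +kernel))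
  by_cases h26 : k < 67500
  · exact edgesOK_spec _ _ edOK26 k (by omega) (lt_of_lt_of_eq h26 (by decide +kernel))
  by_cases h27 : k < 70000
  · exact edgesOK_spec _ _ edOK27 k (by omega) (lt_of_lt_of_eq h27 (by decide +kernel))
  by_cases h28 : k < 72500
  · exact edgesOK_spec _ _ edOK28 k (by omega) (lt_of_lt_of_eq h28 (by decide +kernel))
  by_cases h29 : k < 75000
  · exact edgesOK_spec _ _ edOK29 k (by omega) (lt_of_lt_of_eq h29 (by decide +kernel))
  by_cases h30 : k < 77500
  · exact edgesOK_spec _ _ edOK30 k (by omega) (lt_of_lt_of_eq h30 (by decide +kernel))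
  by_cases h31 : k < 80000
  · exact edgesOK_spec _ _ edOK31 k (by omega) (lt_of_lt_of_eq h31 (by decide +kernel))
  by_cases h32 : k < 82500
  · exact edgesOK_spec _ _ edOK32 k (by omega) (lt_of_lt_of_eq h32 (by decide +kernel))
  by_cases h33 : k < 85000
  · exact edgesOK_spec _ _ edOK33 k (by omega) (lt_of_lt_of_eq h33 (by decide +kernel))
  by_cases h34 : k < 87500
  · exact edgesOK_spec _ _ edOK34 k (by omega) (lt_of_lt_of_eq h34 (by decide +kernel))
  by_cases h35 : k < 90000
  · exact edgesOK_spec _ _ edOK35 k (by omega) (lt_of_lt_of_eq h35 (by decide +kernel))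
  by_cases h36 : k < 92500
  · exact edgesOK_spec _ _ edOK36 k (by omega) (lt_of_lt_of_eq h36 (by decide +kernel))
  by_cases h37 : k < 95000
  · exact edgesOK_spec _ _ edOK37 k (by omega) (lt_of_lt_of_eq h37 (by decide +kernel))
  by_cases h38 : k < 97500
  · exact edgesOK_spec _ _ edOK38 k (by omega) (lt_of_lt_of_eq h38 (by decide +kernel))
  by_cases h39 : k < 100000
  · exact edgesOK_spec _ _ edOK39 k (by omega) (lt_of_lt_of_eq h39 (by decide +kernel))
  by_cases h40 : k < 102500
  · exact edgesOK_spec _ _ edOK40 k (by omega) (lt_of_lt_of_eq h40 (by decide +kernel))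
  by_cases h41 : k < 105000
  · exact edgesOK_spec _ _ edOK41 k (by omega) (lt_of_lt_of_eq h41 (by decide +kernel))
  by_cases h42 : k < 107500
  · exact edgesOK_spec _ _ edOK42 k (by omega) (lt_of_lt_of_eq h42 (by decide +kernel))
  by_cases h43 : k < 110000
  · exact edgesOK_spec _ _ edOK43 k (by omega) (lt_of_lt_of_eq h43 (by decide +kernel))
  by_cases h44 : k < 112500
  · exact edgesOK_spec _ _ edOK44 k (by omega) (lt_of_lt_of_eq h44 (by decide +kernel))
  by_cases h45 : k < 115000
  · exact edgesOK_spec _ _ edOK45 k (by omega) (lt_of_lt_of_eq h45 (by decide +kernel))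
  by_cases h46 : k < 117500
  · exact edgesOK_spec _ _ edOK46 k (by omega) (lt_of_lt_of_eq h46 (by decide +kernel))
  by_cases h47 : k < 120000
  · exact edgesOK_spec _ _ edOK47 k (by omega) (lt_of_lt_of_eq h47 (by decide +kernel))
  by_cases h48 : k < 122500
  · exact edgesOK_spec _ _ edOK48 k (by omega) (lt_of_lt_of_eq h48 (by decide +kernel))
  by_cases h49 : k < 125000
  · exact edgesOK_spec _ _ edOK49 k (by omega) (lt_of_lt_of_eq h49 (by decide +kernel))
  by_cases h50 : k < 127500
  · exact edgesOK_spec _ _ edOK50 k (by omega) (lt_of_lt_of_eq h50 (by decide +kernel))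
  by_cases h51 : k < 130000
  · exact edgesOK_spec _ _ edOK51 k (by omega) (lt_of_lt_of_eq h51 (by decide +kernel))
  by_cases h52 : k < 132500
  · exact edgesOK_spec _ _ edOK52 k (by omega) (lt_of_lt_of_eq h52 (by decide +kernel))
  by_cases h53 : k < 135000
  · exact edgesOK_spec _ _ edOK53 k (by omega) (lt_of_lt_of_eq h53 (by decide +kernel))
  by_cases h54 : k < 137500
  · exact edgesOK_spec _ _ edOK54 k (by omega) (lt_of_lt_of_eq h54 (by decide +kernel))
  by_cases h55 : k < 140000
  · exact edgesOK_spec _ _ edOK55 k (by omega) (lt_of_lt_of_eq h55 (by decide +kernel))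
  by_cases h56 : k < 142500
  · exact edgesOK_spec _ _ edOK56 k (by omega) (lt_of_lt_of_eq h56 (by decide +kernel))
  by_cases h57 : k < 145000
  · exact edgesOK_spec _ _ edOK57 k (by omega) (lt_of_lt_of_eq h57 (by decide +kernel))
  by_cases h58 : k < 147500
  · exact edgesOK_spec _ _ edOK58 k (by omega) (lt_of_lt_of_eq h58 (by decide +kernel))
  by_cases h59 : k < 150000
  · exact edgesOK_spec _ _ edOK59 k (by omega) (lt_of_lt_of_eq h59 (by decide +kernel))
  by_cases h60 : k < 152500
  · exact edgesOK_spec _ _ edOK60 k (by omega) (lt_of_lt_of_eq h60 (by decide +kernel))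
  by_cases h61 : k < 155000
  · exact edgesOK_spec _ _ edOK61 k (by omega) (lt_of_lt_of_eq h61 (by decide +kernel))
  by_cases h62 : k < 157500
  · exact edgesOK_spec _ _ edOK62 k (by omega) (lt_of_lt_of_eq h62 (by decide +kernel))
  by_cases h63 : k < 160000
  · exact edgesOK_spec _ _ edOK63 k (by omega) (lt_of_lt_of_eq h63 (by decide +kernel))
  by_cases h64 : k < 162500
  · exact edgesOK_spec _ _ edOK64 k (by omega) (lt_of_lt_of_eq h64 (by decide +kernel))
  by_cases h65 : k < 165000
  · exact edgesOK_spec _ _ edOK65 k (by omega) (lt_of_lt_of_eq h65 (by decide +kernel))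
  by_cases h66 : k < 167500
  · exact edgesOK_spec _ _ edOK66 k (by omega) (lt_of_lt_of_eq h66 (by decide +kernel))
  by_cases h67 : k < 170000
  · exact edgesOK_spec _ _ edOK67 k (by omega) (lt_of_lt_of_eq h67 (by decide +kernel))
  by_cases h68 : k < 172500
  · exact edgesOK_spec _ _ edOK68 k (by omega) (lt_of_lt_of_eq h68 (by decide +kernel))
  exact edgesOK_spec _ _ edOK69 k (by omega) (lt_of_lt_of_eq hk (by decide +kernel))

theorem checked : Checked dat 87907 where
  defs := defs_ok
  steps := steps_all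
  edges := fun k hk => edges_all k hk
  pos := by decide
  ng_le := by decide

theorem words_ok : wordsOK dat letters 15 (heRel) wit subW = true := by decide +kernel

end Cfsg.Agent.Spor.TranCent.He
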