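import Cfsg.Agent.Lib.Spor.TranCent.Cert.LocalHeData

/-!
Coset certificate `LocalHe` checks.
-/

set_option autoImplicit false
set_option maxRecDepth 100000

namespace Cfsg.Agent.Spor.TranCent.LocalHe

open Cfsg.Agent.Spor.CC

/-- checked entries -/
def edL0 : List ℕ := [
0x89801,
0x8a001,
0x8a801,
0x8b001,
0x1,
0x8b801,
0x8c801,
0x8c001,
0x801,
0x401,
0x8d001,
0x1001,
0x1801,
0xc01,
0x2001,
0x15d00016802,
0x1401,
0x2801,
0x11e00016002,
0x3001,
0x12700017802,
0x12a80018002,
0x1c01,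
0x49c002520016300017004,
0x3801,
0x1280001b002,
0x89001,
0x16d0001a802,
0x4001,
0x2401,
0x2b40015c8001c003,
0x24e001290001c803,
0x2c01,
0x4801,
0x5001,
0x1620001d802,
0x89401,
0x1348001e802,
0x5801,
0x3401,
0x8d801,
0x12d00090002,
0x16e8001f002,
0x6001,
0x3c01,
0x17f00021002,
0x6801,
0x7001,
0x4401,
0x468001848001f803,
0x12c0008e802,
0x4b0002b0001598001a004,
0x2ae0015600021803,
0x4c01,
0x96000560002b30012e0008f805,
0x15e00022002,
0x12b0001d002,
0x13380023002,
0x7801,
0x5401,
0x18a00025002,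
0x8001,
0x8801,
0x5c01,
0x9001,
0x19000026802,
0x9801,
0xa001,
0x6401,
0x22400025802,
0x39c001cd80027003,
0x6c01,
0xa801,
0x18280028002,
0x4660018380020803,
0x17000020002,
0x17280029802,
0x7401,
0x2e0001ff00029003,
0x23200028802,
0x1930002a002,
0xb001,
0xb801,
0x7c01,
0xc001,
0x305001d100027803,
0x8401,
0xc801,
0x1800002b002,
0xd001,
0x1ab0002f802,
0x1ae8002c002,
0x8c01,
0x6ac0035a002290002b804,
0xd801,
0x1ac00030002,
0x88801,
0x3d8001e480031003,
0xe001,
0x9401,
0x3220020300032003,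
0x9c01,
0xe801,
0x19280031802,
0x2230009c802,
0x10c400864004380021d80035005,
0x21500034002,
0xa401,
0x4310021900033003,
0x862004320021e80033804,
0x3a0001cf00035803,
0x17000097802,
0xac01,
0xf001,
0x600004620017380036004,
0x1fe000a2002,
0xb401,
0xf801,
0x19100036802,
0x10001,
0x16900038802,
0x17400037802,
0xbc01,
0x5d600400001f400039004,
0x24980037002,
0x16a00039802,
0x88001,
0x124c00810003f2002088003a005,
0x10801,
0xc401,
0x3aa001da8003a803,
0x356001ad0003b803,
0xcc01,
0x11001,
0x11801,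
0x3ac001de8003c003,
0x88c01,
0x1bd0003d002,
0x12001,
0xd401,
0x18c0003d802,
0x1b10009f002,
0x3d0001ed8003e003,
0x12801,
0xdc01,
0x23d00040002,
0x13001,
0x24600040802,
0xe401,
0x2450003e802,
0x40e0020980042003,
0x21880041002,
0xec01,
0x13801,
0x20700104c0085c004280021a80041806,
0x18d00042802,
0x3dc001d780043803,
0x14001,
0xf401,
0x3ee001ea00043003,
0xf84007ee003c6001fd80044005,
0x17580046002,
0xfc01,
0x3ee0018780045003,
0x24780045802,
0x20500047002,
0x88401,
0x48f0019600046803,
0x24880047802,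
0x10401,
0x4a40025380049003,
0x4a80024c80049803,
0x2520004a002,
0x10c01,
0x16600048802,
0x1b00009e002,
0x8360044c001b2800a0804,
0x414001e78004a803,
0x11401,
0x41b002260002d803,
0x1dd0004c802,
0x1af000a4002,
0x1be8004c002,
0x4880022a0004b003,
0x11c01,
0x456002360004d003,
0x14801,
0x22b0004e002,
0x12401,
0x15001,
0x950004990024b0004e804,
0x2558004f002,
0x2540004f802,
0x12c01,
0x12a000932002ce0025680050005,
0x23500051802,
0x13401,
0x488001fa00051003,
0x23a80050802,
0x243000a5002,
0x10500079e004240020b800a2805,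
0x10500079e004240020c80052005,
0x20d80052802,
0x13c01,
0x4140020e80053003,
0x3d2001e000053803,
0x7a4003c0001e280054004,
0x14401,
0x3e1001fb80054803,
0x634003e6001ef80055804,
0x4750023900057003,
0x14c01,
0x22e00056802,
0x23b80056002,
0x15801,
0x49e0025900058803,
0x87801,
0x93c004b20025a00058004,
0x25080057802,
0x15401,
0x942004a3002580005a004,
0x87c01,
0x4a10025180059803,
0x24f00059002,
0x15c01]

theorem edOK0 : edgesOK dat 603 edL0 0 = true := by decide +kernel

end Cfsg.Agent.Spor.TranCent.LocalHe
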