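import Cfsg.Agent.Lib.Spor.TranCent.Cert.LocalMathieuData

/-!
Coset certificate `LocalMathieu` checks.
-/

set_option autoImplicit false
set_option maxRecDepth 100000

namespace Cfsg.Agent.Spor.TranCent.LocalMathieu

open Cfsg.Agent.Spor.CC

/-- checked entries -/
def edL0 : List ℕ := [
0xe7801,
0xe8001,
0xe8801,
0xe9001,
0x1,
0xe9801,
0xea801,
0xea001,
0x801,
0x401,
0xeb001,
0x1001,
0x1801,
0xc01,
0x2001,
0x2b380016802,
0x1401,
0x2801,
0x1da00016002,
0x3001,
0x29e0001a002,
0x23600017802,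
0x1c01,
0x56c002aa00017003,
0x3801,
0x29f0001a802,
0xe7001,
0x574002ad0001b803,
0x4001,
0x2401,
0x25d0001d002,
0x2378001c002,
0x2c01,
0x4801,
0x5001,
0x2640001d802,
0xe7401,
0x54c002450001e803,
0x5801,
0x3401,
0xeb801,
0x23900019002,
0x56e002668001f003,
0x6001,
0x3c01,
0x5480027f00020803,
0x6801,
0x7001,
0x4401,
0x5d90038f0001f803,
0x23800018002,
0x2b80015580096a0048400259800ee806,
0x4ae0025400021003,
0x4c01,
0x570002ab0012d400908004b30023c000ed807,
0x2b900022002,
0x23b0001c802,
0x5440024780021803,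
0x7801,
0x5401,
0x29000023002,
0x8001,
0x8801,
0x5c01,
0x9001,
0x28700024002,
0x9801,
0xa001,
0x6401,
0x36500023802,
0xa04006720027b00025804,
0x6c01,
0xa801,
0x28280025002,
0x38e00020002,
0xbb2007080038700026004,
0x5cc002cf00026803,
0x7401,
0x5d90038400027803,
0x39180027002,
0x5760028500028003,
0xb001,
0xb801,
0x7c01,
0xc001,
0x33600029002,
0x8401,
0xc801,
0x28100028802,
0xd001,
0x36f00029802,
0x3078002a802,
0x8c01,
0x60c003690002a003,
0xd801,
0x3700002b802,
0xe6801,
0x3568002c802,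
0xe001,
0x9401,
0x3470002d002,
0x9c01,
0xe801,
0x3288002d802,
0x36300024802,
0x3600002f002,
0x193800bdc00638002c18002f805,
0xa401,
0x6c00033f8002e803,
0x35f0002e002,
0x36b00030802,
0x2ec80031002,
0xac01,
0xf001,
0xe40005f10038a80031804,
0xca2006920027800032804,
0xb401,
0xf801,
0x32600032002,
0x10001,
0x37d00033002,
0x5cf002bf80033803,
0xbc01,
0x5db0037900034003,
0x3bc00034802,
0x37e00035002,
0xe6001,
0x7780034e00035803,
0x10801,
0xc401,
0x35100037002,
0x30600037802,
0xcc01,
0x11001,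
0x11801,
0x35400038802,
0xe6c01,
0x37280038002,
0x12001,
0xd401,
0x2920003a802,
0x30a000f3002,
0x6aa0033a8003a003,
0x12801,
0xdc01,
0xef000580003c28003d004,
0x13001,
0x780003770003b803,
0xe401,
0x3c38003b002,
0x33c0003e802,
0x3298003e002,
0xec01,
0x13801,
0x64e002f70018e000b06006c20032b8003d807,
0x2e10003f002,
0x3830003f802,
0x14001,
0xf401,
0x70a002d780040003,
0x2ff00040802,
0x2ed80041002,
0xfc01,
0x172800b22005c4002d000042005,
0x375801e0c00e00005f3002ef80042806,
0x30000044002,
0xe6401,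
0x6eb003c180043003,
0x614003b700044803,
0x10401,
0xe5a0077a003ae00046804,
0x39500046002,
0x72d0035880045003,
0x10c01,
0x72d003b100047003,
0x6120028b00049003,
0x65d0036600198800c68005190030c8004a007,
0xca8005860031900048004,
0x11401,
0x197400d98006620031a00048805,
0x3370004a802,
0x308000f6002,
0x6e2003138004c003,
0x3bb8004b002,
0x11c01,
0x3c40004d002,
0x14801,
0x39b0004c802,
0x12401,
0x15001,
0x772003ac0004d803,
0x3968004f002,
0x72a0035a0004e803,
0x12c01,
0x760003978004e003,
0x1bac00f0600700002f980177c00d34005e9003c68004f809,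
0x13401,
0x7770037400050003,
0xe7c00727003c780050804,
0xb9e0057f003c8800f7004,
0x195000b0c006320031f80051005,
0x36400051802,
0x32e80052002,
0x13c01,
0x6c80032d0018a400c400051c0031800052807,
0x2e300053802,
0xe14005af002e980054004,
0x14401,
0x5cf002ea80054803,
0x706002eb80055003,
0x3c500056802,
0x14c01,
0x39f00055802,
0x1bac00f0600724003a180056005,
0x15801,
0x79a0039d80057803,
0xe5801,
0x3d700058002,
0x7be003dc00057003,
0x15401,
0x3cf00058802,
0xe5c01,
0x3da00059002,
0xf340073b003de00059804,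
0x15c01]

theorem edOK0 : edgesOK dat 992 edL0 0 = true := by decide +kernel

end Cfsg.Agent.Spor.TranCent.LocalMathieu
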