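import Cfsg.Agent.Lib.Spor.TranCent.Cert.SevenSteps0
import Cfsg.Agent.Lib.Spor.TranCent.Cert.SevenEdges0

/-!
Coset certificate `Seven` assembled.
-/

set_option autoImplicit false
set_option maxRecDepth 100000

namespace Cfsg.Agent.Spor.TranCent.Seven

open Cfsg.Agent.Spor.CC

theorem steps_all : ∀ k, 7 ≤ k → k < 26 → ∃ s, stepOK dat k s = true := by
  intro k hk0 hk
  exact stepsOK_spec _ _ stOK0 k (by omega) (lt_of_lt_of_eq hk (by decide +kernel))

theorem edges_all : ∀ k, k < 35 → ∃ s, edgeOK dat 26 k s = true := by
  intro k hk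
  exact edgesOK_spec _ _ edOK0 k (by omega) (lt_of_lt_of_eq hk (by decide +kernel))

theorem checked : Checked dat 26 where
  defs := defs_ok
  steps := steps_all
  edges := fun k hk => edges_all k hk
  pos := by decide
  ng_le := by decide

theorem words_ok : wordsOK dat letters 15 (cRel ++ pRel) wit subW = true := by decide +kernel

end Cfsg.Agent.Spor.TranCent.Seven
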