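import Cfsg.Agent.Lib.Spor.PresCert
import Cfsg.Agent.Lib.Spor.TranCent.RelWords

/-!
Coset certificate `Seven`: data.
-/

set_option autoImplicit false
set_option maxRecDepth 100000

namespace Cfsg.Agent.Spor.TranCent.Seven

open Cfsg.Agent.Spor.CC

/-- packed equalities -/
def factC0 : ℕ := 0x30000800020200008000200000180006000001c0005030001000040f0001c00050100008000202000100006000001000030100010000602000040001030001c000504000140005040001800060100004000104000000000020000000000100000000000000000000020001c0003030001800030100014000304000100002040000c00010000008000103000040000

/-- the recorded equalities -/
def facts (id : ℕ) : ℕ :=
  fld factC0 44 (Nat.sub id 0)

/-- packed words -/
def words : ℕ := 0x4010000000000000000000000000000000000000000000000000000000000000000000000000000000000000000000000000000000000000000000000000000020100000000000000000000000000000000000000000000000000000000000000000000000000000000000000000000000000000000000000000000000000000101000000000000000000000000000000000000000000000000000000000000000000000000000000000000000000000000000000000000000000000000000000010000000000000000000000000000000000000000000000000000000000000000000000000000000000000000000000000000000000000002014214042141021000000000000000000000000000000000000000000000000000000000000000000000000000000000000000000000000000000000000000140421410202014210000000000000000000000000000000000000000000000000000000000000000000000000000000000000000000000000000000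0000000004024204242402420f0000000000000000000000000000000000000000000000000000000000000000000000000000000000000000000000000000000000000000000141313142120c0000000000000000000000000000000000000000000000000000000000000000000000000000000000000000000000000000000000000000000430413421320c0000000000000000000000000000000000000000000000000000000000000000000000000000000000000000000000000000000000000000001331214141420c0000000000000000000000000000000000000000000000000000000000000000000000000000000000000000000000000000000000000000003133132040420c0000000000000000000000000000000000000000000000000000000000000000000000000000000000000000000000000000000000000000001320430413420c0000000000000000000000000000000000000000000000000000000000000000000000000000000000000000000000000000000000000000003142314231420c0000000000000000000000000000000000000000000000000000000000000000000000000000000000000000000000000000000000000000003141304243420c0000000000000000000000000000000000000000000000000000000000000000000000000000000000000000000000000000000000000000003134141431310c0000000000000000000000000000000000000000000000000000000000000000000000000000000000000000000000000000000000000000000434341340310b0000000000000000000000000000000000000000000000000000000000000000000000000000000000000000000000000000000000000000001313141021240c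

/-- the certificate -/
def dat : Data where
  ng := 5
  na := 8
  nn := 7
  facts := facts
  words := words
  nr := 13
  nw := 17

/-- witnesses for the words -/
def wit : List (ℕ × ℕ × Bool) := [
  (13, 2, false),
  (5, 3, false),
  (10, 0, true),
  (11, 5, false),
  (14, 0, true),
  (8, 2, false),
  (9, 3, false),
  (7, 2, false),
  (8, 11, false),
  (13, 6, true),
  (19, 1, false),
  (23, 3, false),
  (23, 9, false)]

/-- subgroup words -/
def subW : List (List ℕ) := [[0], [1], [2], [4]]

/-- letters -/
def letters : List ℕ := [0, 1, 2, 3, 4]

theorem defs_ok : ∀ k, k < dat.na - 1 → defOK dat k = true := by decide +kernel

end Cfsg.Agent.Spor.TranCent.Seven
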