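import Cfsg.Agent.Lib.Spor.TranCent.Cert.SevenData

/-!
Coset certificate `Seven` checks.
-/

set_option autoImplicit false
set_option maxRecDepth 100000

namespace Cfsg.Agent.Spor.TranCent.Seven

open Cfsg.Agent.Spor.CC

/-- checked entries -/
def stL0 : List ℕ := [
0x340000,
0x380000,
0x3c0000,
0x400000,
0x200000000008000050000200000e0000900004000024000140080900000000,
0x1400004000050000100002c000000000a00003800002000160080800040001,
0x2000008000000000800000400010000040000000004000002000160140600080001,
0x2000008000160000000003800028000120000a0000040000a0000d0000b000c0007,
0x14000120001d000000000400002800012000008000580000a0000d00c0800100007,
0x1800004000000000a00003800024000010000b000028000080001e0200300140001,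
0x18000040001e00000000040000020000000008000004000080001e0240200180001,
0x1800004000000000800005000020000010000c000028000080001e01c04000c0001,
0x1c000400002500010000028000160002100003800080000300002501c04001c0004,
0x600001000000000100000a00003800002000050001180002000016000250240300200004,
0x8000014000090000d00002000046000200000c00009400040000250180500240004,
0x30000080001e0000180001c0003400029000060000100003c000050001180009000030000250140a00280004,
0xc0000840003000025000100000600004200022000068000b0000520000c0001180008000030000250080e002c0004,
0x7000110000100002c0001e00002800024000520002c000148000300004600026000038000800005c000250300500300004,
0x9800060000020000280002c0005c00018000108000a80000c000300040a00140002]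

theorem stOK0 : stepsOK dat stL0 7 = true := by decide +kernel

end Cfsg.Agent.Spor.TranCent.Seven
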